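import Cfsg.Agent.H106.RC.Cover
import Cfsg.Agent.H206.PspFix

/-!
# S3510, symplectic groups in characteristic two: automorphisms induced by semisimilitudes (helper385)

* `IndPsi e g` : conjugation by `g` on `N ≅ PSp m F` is induced by a semisimilitude
* `indPsi_of_three` : always, for `m ≥ 3`
* `indPsi_of_odd` : elements of odd order
* `IndPsi.one`, `IndPsi.mul`, `IndPsi.inv`, `IndPsi.of_mem` : these elements form a subgroup containing `N`
-/

set_option autoImplicit false

namespace Cfsg.Agent.H385.RC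

open Cfsg Cfsg.Agent.H106.RC
open Cfsg.Agent.ClassicalGeometry.SympAutSemi Cfsg.Agent.ClassicalGeometry.SympBasic

section

variable {m : ℕ} {F : Type} [Field F] {G : Type} [Group G] {N : Subgroup G}

/-- conjugation by `g` on `N ≅ PSp m F` is induced by a semisimilitude -/
def IndPsi (e : N ≃* PSp m F) (g : G) : Prop :=
  ∃ p : semiSim m F, ∀ n : N, ((e.symm (Psi m F p (e n)) : N) : G) = g * n * g⁻¹

/-- the automorphism of `PSp m F` induced by `g` -/
noncomputable def indAut (hN : N.Normal) (e : N ≃* PSp m F) : G →* MulAut (PSp m F) :=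
  (MulAut.congr e).toMonoidHom.comp MulAut.conjNormal

theorem indAut_apply (hN : N.Normal) (e : N ≃* PSp m F) (g : G) (n : N) :
    ((e.symm (indAut hN e g (e n)) : N) : G) = g * n * g⁻¹ := by
  have h1 : indAut hN e g (e n) = e (MulAut.conjNormal g n) := by
    simp [indAut, MulAut.congr]
  rw [h1, e.symm_apply_apply, MulAut.conjNormal_apply]

theorem indPsi_iff (hN : N.Normal) (e : N ≃* PSp m F) (g : G) :
    IndPsi e g ↔ ∃ p : semiSim m F, Psi m F p = indAut hN e g := by
  constructor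
  · rintro ⟨p, hp⟩
    refine ⟨p, MulEquiv.ext fun y => ?_⟩
    obtain ⟨n, rfl⟩ := e.surjective y
    apply e.symm.injective
    apply Subtype.ext
    rw [hp, indAut_apply]
  · rintro ⟨p, hp⟩
    exact ⟨p, fun n => by rw [hp, indAut_apply]⟩

theorem IndPsi.mul (e : N ≃* PSp m F) {g k : G} (hN : N.Normal) (h1 : IndPsi e g) (h2 : IndPsi e k) :
    IndPsi e (g * k) := by
  rw [indPsi_iff hN] at h1 h2 ⊢
  obtain ⟨p, hp⟩ := h1
  obtain ⟨p', hp'⟩ := h2
  exact ⟨p * p', by rw [map_mul, map_mul, hp, hp']⟩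

theorem IndPsi.inv (e : N ≃* PSp m F) {g : G} (hN : N.Normal) (h1 : IndPsi e g) : IndPsi e g⁻¹ := by
  rw [indPsi_iff hN] at h1 ⊢
  obtain ⟨p, hp⟩ := h1
  exact ⟨p⁻¹, by rw [map_inv, map_inv, hp]⟩

theorem IndPsi.one (e : N ≃* PSp m F) : IndPsi e (1 : G) :=
  ⟨1, fun n => by rw [map_one, MulAut.one_apply, e.symm_apply_apply]; simp⟩

theorem indPsi_of (hm : 2 ≤ m) [Finite F] (hs : m = 2 → 3 ≤ Nat.card F) (hN : N.Normal) (e : N ≃* PSp m F) {g : G}
    (hg : (3 ≤ m ∨ (2 : F) ≠ 0) ∨ Odd (orderOf g)) : IndPsi e g := by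
  rw [indPsi_iff hN]
  refine Cfsg.Agent.H206.PspFix.mem_range_Psi hm hs _ ?_
  rcases hg with hg | hg
  · exact Or.inl hg
  · right
    exact hg.of_dvd_nat (orderOf_map_dvd _ g)

/-- elements of prime order not induced by a semisimilitude are involutions -/
theorem eq_two_of_not_indPsi (hm : 2 ≤ m) [Finite F] (hs : m = 2 → 3 ≤ Nat.card F) (hN : N.Normal) (e : N ≃* PSp m F)
    {ι : Type} {x : ι → G} {r : ι → ℕ} (hx : PF x r) {i : ι} (hi : ¬ IndPsi e (x i)) : r i = 2 := by
  by_contra h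
  apply hi
  apply indPsi_of hm hs hN e
  right
  have h1 : orderOf (x i) ∣ r i := orderOf_dvd_of_pow_eq_one (hx.pow i)
  exact ((hx.prime i).odd_of_ne_two h).of_dvd_nat h1

end

end Cfsg.Agent.H385.RC
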