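import Cfsg.Agent.H194.RC.EvEx
import Cfsg.Agent.H547.RC.M2F
import Cfsg.Agent.H555.RC.DeadEven
import Cfsg.Agent.H842.RC.MTwoO
import Cfsg.Agent.H332.RC.GrPsp
import Cfsg.Agent.H327.RC.GrOne
import Cfsg.Agent.H385.RC.IndPsi

/-!
# S3510, symplectic groups in characteristic two: assembly (helper385)

* `dead_ind` : no cover by elements inducing elements of `PΓSp` (characteristic two)
* `noCov_even` : `PSp m F`, characteristic two, has no cover
-/

set_option autoImplicit false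

namespace Cfsg.Agent.H385.RC

open Cfsg Cfsg.Agent.H106.RC Module
open Cfsg.Agent.ClassicalGeometry.SympAutSemi Cfsg.Agent.ClassicalGeometry.SympBasic

/-- conjugation by elements of `N` is induced by semisimilitudes -/
theorem indPsi_of_mem {m : ℕ} {F : Type} [Field F] {G : Type} [Group G] {N : Subgroup G} (e : N ≃* PSp m F) {g : G}
    (hg : g ∈ N) : IndPsi e g := by
  obtain ⟨A, hA⟩ := QuotientGroup.mk_surjective (e ⟨g, hg⟩)
  have hr : rho m F A ∈ semiSim m F := ⟨RingEquiv.refl F, 1, one_ne_zero, isSemi_rho A⟩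
  refine ⟨⟨rho m F A, hr⟩, fun n => ?_⟩
  rw [Cfsg.Agent.H966.PSpAut.Psi_rho A hr, hA, MulAut.conj_apply, ← map_mul, ← map_inv, ← map_mul, e.symm_apply_apply]
  rfl

section

variable {m : ℕ} (hm : 2 ≤ m) {F : Type} [Field F] [Finite F] (h2 : (2 : F) = 0)
  (hq : m = 2 → 3 ≤ Nat.card F) (hIH : IH (Nat.card (PSp m F)))

include hm h2 hq hIH

/-- no cover by elements inducing elements of `PΓSp` -/
theorem dead_ind {G Ω : Type} [Group G] [Finite G] [MulAction G Ω] [Nonempty Ω] {N : Subgroup G} (hE : Env G Ω N)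
    (e : N ≃* PSp m F) {ι : Type} [Finite ι] {x : ι → G} {r : ι → ℕ} (hx : PF x r) (hcov : Cov Ω x)
    (hI : ∀ i, IndPsi e (x i)) : False := by
  have hfin : Finite (PSp m F) := Finite.of_equiv N e.toEquiv
  have hrank : finrank F (Fin m ⊕ Fin m → F) = 2 * m := by
    rw [Module.finrank_fintype_fun_eq_card, Fintype.card_sum, Fintype.card_fin]
    omega
  refine Cfsg.Agent.H194.RC.even_reduce hm h2 hE e hx hcov hI ?_
  intro H _ _ _ _ N' hEv hE' e' y hy hcy
  rcases Nat.lt_or_ge 2 m with h3 | h3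
  · exact Cfsg.Agent.H555.RC.dead_even hEv hE' hIH e' hy hcy (by omega)
  · obtain rfl : m = 2 := le_antisymm h3 hm
    have hq' := hq rfl
    have hr4 : finrank F (Fin 2 ⊕ Fin 2 → F) = 4 := by omega
    have hq2 : 2 < Nat.card F := by omega
    by_cases hlin : ∀ i, y i ∈ N'
    · by_cases hodd : ∀ i, r i ≠ 2
      · exact Cfsg.Agent.H842.RC.m2o hEv hE' hIH e' hy hcy hr4 hq2 hlin hodd
      · push Not at hodd
        obtain ⟨i, hi⟩ := hodd
        exact Cfsg.Agent.H547.RC.m2u hEv hE' hIH e' hy hcy hr4 hq2 hlin i hi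
    · push Not at hlin
      obtain ⟨i, hi⟩ := hlin
      by_cases hfix : ∀ c : F, (∀ v : Fin 2 ⊕ Fin 2 → F, y i • c • v = c • y i • v) → c = 0 ∨ c = 1
      · exact Cfsg.Agent.H547.RC.m2f_two hEv hE' hIH e' hy hcy hr4 i hi hfix
      · push Not at hfix
        obtain ⟨c, hc, hc0, hc1⟩ := hfix
        exact Cfsg.Agent.H327.RC.ev_field hEv hE' hIH e' hy hcy (by omega) i hi (Or.inr ⟨c, hc0, hc1, hc⟩)

/-- `PSp m F`, characteristic two, has no cover -/
theorem noCov_even
    (hA6 : ∀ g : MulAut (alternatingGroup (Fin 6)), orderOf g ≠ 6 → RCe (alternatingGroup (Fin 6)) g) :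
    NoCov (PSp m F) := by
  intro G _ _ Ω _ _ _ N hE e ι _ x r hx hcov _
  by_cases hI : ∀ i, IndPsi e (x i)
  · exact dead_ind hm h2 hq hIH hE e hx hcov hI
  · push Not at hI
    obtain ⟨i, hi⟩ := hI
    rcases Nat.lt_or_ge 2 m with h3 | h3
    · exact (hi (indPsi_of hm hq hE.norm e (Or.inl (Or.inl h3)))).elim
    · obtain rfl : m = 2 := le_antisymm h3 hm
      by_cases hj : ∀ j, j ≠ i → x j ∈ N
      · refine Cfsg.Agent.H332.RC.gr_two_psp h2 (hq rfl) hE e hx hcov i hi hj ?_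
        intro κ _ x' r' hx' hc' hN' _
        exact dead_ind hm h2 hq hIH hE e hx' hc' fun k => indPsi_of_mem e (hN' k)
      · push Not at hj
        obtain ⟨j, hj0, hj⟩ := hj
        exact Cfsg.Agent.H327.RC.gr_one h2 (hq rfl) hE e hIH hA6 hx hcov i hi j hj0 hj

end

end Cfsg.Agent.H385.RC
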