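import Cfsg.Agent.H106.RC.Use
import Cfsg.Agent.H106.RC.Ari
import Cfsg.Agent.H380.RC.Rules

/-!
# S3510, symplectic groups in characteristic two: the environment (helper385)

* `Ev B N` : `G` acts faithfully on `V` by semilinear isometries of the alternating form `B`, `N` is the subgroup of the
  linear ones, and every isometry occurs.
* `ysr e f` (`B e f = 0`) : the short root element `v ↦ v + B v e • f + B v f • e`
* `tr e c` : the transvection `v ↦ v + (c * B v e) • e`
* `SimpCl H` : simple, classical, not exceptional.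
-/

set_option autoImplicit false
set_option linter.unusedSimpArgs false
set_option linter.unusedVariables false

namespace Cfsg.Agent.H385.RC

open Cfsg Cfsg.Agent.H106.RC Module

/-- environment: `G` acts faithfully on `V` by semilinear isometries of `B`, `N` = the linear ones, every isometry occurs -/
structure Ev {F V G : Type*} [Field F] [AddCommGroup V] [Module F V] [Group G] [DistribMulAction G V]
    (B : LinearMap.BilinForm F V) (N : Subgroup G) : Prop where
  alt : B.IsAlt
  nd : ∀ u, (∀ v, B u v = 0) → u = 0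
  two : (2 : F) = 0
  inj : ∀ g : G, (∀ v : V, g • v = v) → g = 1
  semi : ∀ g : G, ∃ σ : F ≃+* F, (∀ (a : F) (v : V), g • a • v = σ a • g • v) ∧ ∀ u v, B (g • u) (g • v) = σ (B u v)
  mem : ∀ g : G, g ∈ N ↔ ∀ (a : F) (v : V), g • a • v = a • g • v
  surj : ∀ A : V ≃ₗ[F] V, (∀ u v, B (A u) (A v) = B u v) → ∃ g : G, ∀ v : V, g • v = A v

/-- simple classical groups which are not exceptional -/
structure SimpCl (H : Type*) [Group H] : Prop where
  simple : IsSimpleGroup H
  ncomm : ¬ IsMulCommutative H
  cl : Cl H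
  nexc : ¬ Exc H

section basic

variable {F V G : Type*} [Field F] [AddCommGroup V] [Module F V] [Group G] [DistribMulAction G V]
  {B : LinearMap.BilinForm F V} {N : Subgroup G}

theorem Ev.self (h : Ev B N) (u : V) : B u u = 0 := h.alt u

theorem Ev.add_self (h : Ev B N) (a : F) : a + a = 0 := by
  have := h.two
  linear_combination a * this

theorem Ev.vadd_self (h : Ev B N) (v : V) : v + v = 0 := by
  rw [← two_smul F v, h.two, zero_smul]

theorem Ev.neg (h : Ev B N) (a : F) : -a = a := by
  rw [neg_eq_iff_add_eq_zero]; exact h.add_self a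

theorem Ev.vneg (h : Ev B N) (v : V) : -v = v := by
  rw [neg_eq_iff_add_eq_zero]; exact h.vadd_self v

theorem Ev.symm (h : Ev B N) (u v : V) : B u v = B v u := by
  rw [← h.alt.neg_eq v u, h.neg]

theorem Ev.ext (h : Ev B N) {g g' : G} (hg : ∀ v : V, g • v = g' • v) : g = g' := by
  have h1 := h.inj (g'⁻¹ * g) fun v => by rw [mul_smul, hg, inv_smul_smul]
  exact (inv_mul_eq_one.1 h1).symm

theorem Ev.lin (h : Ev B N) {g : G} (hg : g ∈ N) (a : F) (v : V) : g • a • v = a • g • v := (h.mem g).1 hg a v

/-- linear elements are isometries -/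
theorem Ev.isom (h : Ev B N) {g : G} (hg : g ∈ N) (u v : V) : B (g • u) (g • v) = B u v := by
  obtain ⟨σ, h1, h2⟩ := h.semi g
  by_cases hV : ∀ w : V, w = 0
  · rw [hV (g • u), hV u]; simp
  · push Not at hV
    obtain ⟨w, hw⟩ := hV
    have hσ : ∀ a, σ a = a := by
      intro a
      have h3 := h1 a w
      rw [h.lin hg] at h3
      have h4 : g • w ≠ 0 := by
        intro h5
        apply hw
        exact (smul_eq_zero_iff_eq g).1 h5
      have h6 : (a - σ a) • g • w = 0 := by rw [sub_smul, h3, sub_self]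
      rcases smul_eq_zero.1 h6 with h7 | h7
      · exact (sub_eq_zero.1 h7).symm
      · exact absurd h7 h4
    rw [h2, hσ]

/-- the linear equivalence attached to a linear element -/
def Ev.le (h : Ev B N) {g : G} (hg : g ∈ N) : V ≃ₗ[F] V :=
  { DistribMulAction.toAddEquiv V g with
    map_smul' := fun a v => h.lin hg a v }

theorem Ev.le_apply (h : Ev B N) {g : G} (hg : g ∈ N) (v : V) : h.le hg v = g • v := rfl

/-- every isometry comes from an element of `N` -/
theorem Ev.surjN (h : Ev B N) (A : V ≃ₗ[F] V) (hA : ∀ u v, B (A u) (A v) = B u v) : ∃ g ∈ N, ∀ v, g • v = A v := by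
  obtain ⟨g, hg⟩ := h.surj A hA
  refine ⟨g, (h.mem g).2 fun a v => ?_, hg⟩
  rw [hg, hg, map_smul]

/-- the linear map `v ↦ v + B v e • f + B v f • e` -/
def srMap (B : LinearMap.BilinForm F V) (e f : V) : V →ₗ[F] V :=
  LinearMap.id + (B.flip e).smulRight f + (B.flip f).smulRight e

theorem srMap_apply (e f v : V) : srMap B e f v = v + B v e • f + B v f • e := rfl

/-- the linear map `v ↦ v + (c * B v e) • e` -/
def trMap (B : LinearMap.BilinForm F V) (e : V) (c : F) : V →ₗ[F] V :=
  LinearMap.id + (c • B.flip e).smulRight e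

theorem trMap_apply (e v : V) (c : F) : trMap B e c v = v + (c * B v e) • e := rfl

theorem Ev.srMap_invol (h : Ev B N) {e f : V} (hef : B e f = 0) : Function.Involutive (srMap B e f) := by
  intro v
  have hfe : B f e = 0 := by rw [h.symm, hef]
  simp only [srMap_apply, map_add, map_smul, LinearMap.add_apply, LinearMap.smul_apply, h.self, hef, hfe, smul_zero,
    add_zero, smul_eq_mul, mul_zero, zero_smul]
  have h1 := h.vadd_self (B v e • f)
  have h2 := h.vadd_self (B v f • e)
  calc v + B v e • f + B v f • e + B v e • f + B v f • e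
      = v + (B v e • f + B v e • f) + (B v f • e + B v f • e) := by abel
    _ = v := by rw [h1, h2, add_zero, add_zero]

theorem Ev.trMap_invol (h : Ev B N) (e : V) (c : F) : Function.Involutive (trMap B e c) := by
  intro v
  simp only [trMap_apply, map_add, map_smul, LinearMap.add_apply, LinearMap.smul_apply, h.self, smul_zero, add_zero,
    smul_eq_mul, mul_zero, zero_smul]
  rw [add_assoc, h.vadd_self, add_zero]

theorem Ev.exists_sr (h : Ev B N) {e f : V} (hef : B e f = 0) : ∃ g ∈ N, ∀ v, g • v = v + B v e • f + B v f • e := by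
  obtain ⟨g, hg, hgv⟩ := h.surjN (LinearEquiv.ofInvolutive (srMap B e f) (h.srMap_invol hef)) (by
    intro u v
    have hfe : B f e = 0 := by rw [h.symm, hef]
    change B (srMap B e f u) (srMap B e f v) = B u v
    simp only [srMap_apply, map_add, map_smul, LinearMap.add_apply, LinearMap.smul_apply, h.self, smul_eq_mul, hef, hfe]
    rw [h.symm e v, h.symm f v]
    linear_combination (B u e * B v f + B u f * B v e) * h.two)
  exact ⟨g, hg, fun v => by rw [hgv]; rfl⟩

/-- short root element -/
noncomputable def Ev.sr (h : Ev B N) {e f : V} (hef : B e f = 0) : G := (h.exists_sr hef).choose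

theorem Ev.sr_mem (h : Ev B N) {e f : V} (hef : B e f = 0) : h.sr hef ∈ N := (h.exists_sr hef).choose_spec.1

theorem Ev.sr_apply (h : Ev B N) {e f : V} (hef : B e f = 0) (v : V) :
    h.sr hef • v = v + B v e • f + B v f • e := (h.exists_sr hef).choose_spec.2 v

theorem Ev.exists_tr (h : Ev B N) (e : V) (c : F) : ∃ g ∈ N, ∀ v, g • v = v + (c * B v e) • e := by
  obtain ⟨g, hg, hgv⟩ := h.surjN (LinearEquiv.ofInvolutive (trMap B e c) (h.trMap_invol e c)) (by
    intro u v
    change B (trMap B e c u) (trMap B e c v) = B u v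
    simp only [trMap_apply, map_add, map_smul, LinearMap.add_apply, LinearMap.smul_apply, h.self, smul_eq_mul]
    rw [h.symm e v]
    linear_combination (c * B u e * B v e) * h.two)
  exact ⟨g, hg, fun v => by rw [hgv]; rfl⟩

/-- transvection -/
noncomputable def Ev.tr (h : Ev B N) (e : V) (c : F) : G := (h.exists_tr e c).choose

theorem Ev.tr_mem (h : Ev B N) (e : V) (c : F) : h.tr e c ∈ N := (h.exists_tr e c).choose_spec.1

theorem Ev.tr_apply (h : Ev B N) (e : V) (c : F) (v : V) : h.tr e c • v = v + (c * B v e) • e :=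
  (h.exists_tr e c).choose_spec.2 v

theorem Ev.sr_sq (h : Ev B N) {e f : V} (hef : B e f = 0) : h.sr hef * h.sr hef = 1 := by
  apply h.ext
  intro v
  rw [mul_smul, one_smul, h.sr_apply, h.sr_apply]
  exact h.srMap_invol hef v

theorem Ev.sr_inv (h : Ev B N) {e f : V} (hef : B e f = 0) : (h.sr hef)⁻¹ = h.sr hef :=
  inv_eq_of_mul_eq_one_left (h.sr_sq hef)

theorem Ev.tr_sq (h : Ev B N) (e : V) (c : F) : h.tr e c * h.tr e c = 1 := by
  apply h.ext
  intro v
  rw [mul_smul, one_smul, h.tr_apply, h.tr_apply]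
  exact h.trMap_invol e c v

theorem Ev.tr_inv (h : Ev B N) (e : V) (c : F) : (h.tr e c)⁻¹ = h.tr e c :=
  inv_eq_of_mul_eq_one_left (h.tr_sq e c)

/-- the form and semilinear isometries -/
theorem Ev.form_zero (h : Ev B N) (g : G) {u v : V} (huv : B u v = 0) : B (g • u) (g • v) = 0 := by
  obtain ⟨σ, -, h2⟩ := h.semi g
  rw [h2, huv, map_zero]

theorem Ev.form_inv (h : Ev B N) {g : G} {σ : F ≃+* F} (h2 : ∀ u v, B (g • u) (g • v) = σ (B u v)) (u v : V) :
    σ (B (g⁻¹ • u) v) = B u (g • v) := by
  rw [← h2, smul_inv_smul]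

theorem Ev.conj_sr (h : Ev B N) (g : G) {e f : V} (hef : B e f = 0) :
    g * h.sr hef * g⁻¹ = h.sr (h.form_zero g hef) := by
  obtain ⟨σ, h1, h2⟩ := h.semi g
  apply h.ext
  intro v
  rw [mul_smul, mul_smul, h.sr_apply, h.sr_apply, smul_add, smul_add, h1, h1, smul_inv_smul,
    h.form_inv h2, h.form_inv h2]

theorem Ev.conj_tr (h : Ev B N) {g : G} {σ : F ≃+* F} (h1 : ∀ (a : F) (v : V), g • a • v = σ a • g • v)
    (h2 : ∀ u v, B (g • u) (g • v) = σ (B u v)) (e : V) (c : F) :
    g * h.tr e c * g⁻¹ = h.tr (g • e) (σ c) := by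
  apply h.ext
  intro v
  rw [mul_smul, mul_smul, h.tr_apply, h.tr_apply, smul_add, h1, smul_inv_smul, map_mul, h.form_inv h2]

end basic

end Cfsg.Agent.H385.RC
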