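import Mathlib.LinearAlgebra.QuadraticForm.Basic
import Mathlib.LinearAlgebra.BilinearForm.Properties
import Mathlib.LinearAlgebra.FiniteDimensional.Basic
import Mathlib.LinearAlgebra.Basis.VectorSpace
import Mathlib.Algebra.BigOperators.Fin
import Mathlib.Tactic
import Cfsg.Agent.H566.RC.Torus

/-! A torus of isometries normalising a skew nilpotent operator `X` with `X ^ 3 = 0`, commuting with a coprime abelian
group of isometries. Everything is a computation in the commutant, which is a regular ring with involution. -/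

set_option linter.unusedSimpArgs false

namespace Cfsg.Agent.H385.RC.Torus

open QuadraticMap

section Alg

variable {F R : Type*} [Field F] [Ring R] [Algebra F R]

/-- stage A: the pseudo inverse of `X ^ 2` made isotropic. -/
theorem stageA {h : F} (hh : h + h = 1) {X b y : R} (hXX : X * X = b) (hXb : X * b = 0) (hbX : b * X = 0)
    (hbyb : b * (y * b) = b) (hyby : y * (b * y) = y) :
    ∀ u : R, u = 1 - h • (X * (y * X)) → b * ((u * (y * u)) * b) = b ∧ (u * (y * u)) * (b * (u * (y * u))) = u * (y * u)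
      ∧ (u * (y * u)) * (X * (u * (y * u))) = 0 := by
  have hbb : b * b = 0 := by rw [← hXX, mul_assoc, hXX, hXb, mul_zero]
  have hXX' : ∀ t, X * (X * t) = b * t := fun t => by rw [← mul_assoc, hXX]
  have hXb' : ∀ t, X * (b * t) = 0 := fun t => by rw [← mul_assoc, hXb, zero_mul]
  have hbX' : ∀ t, b * (X * t) = 0 := fun t => by rw [← mul_assoc, hbX, zero_mul]
  have hbb' : ∀ t, b * (b * t) = 0 := fun t => by rw [← mul_assoc, hbb, zero_mul]
  have hbyb' : ∀ t, b * (y * (b * t)) = b * t := fun t => by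
    rw [← mul_assoc y, ← mul_assoc b, hbyb]
  have hyby' : ∀ t, y * (b * (y * t)) = y * t := fun t => by
    rw [← mul_assoc b, ← mul_assoc y, hyby]
  rintro u rfl
  refine ⟨?_, ?_, ?_⟩
  · simp only [mul_assoc, mul_sub, sub_mul, mul_one, one_mul, smul_mul_assoc, mul_smul_comm, smul_smul, hXX, hXX',
      hXb, hXb', hbX, hbX', hbb, hbb', hbyb, hbyb', hyby, hyby', mul_zero, zero_mul, smul_zero, sub_zero, zero_sub]
  · simp only [mul_assoc, mul_sub, sub_mul, mul_one, one_mul, smul_mul_assoc, mul_smul_comm, smul_smul, hXX, hXX',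
      hXb, hXb', hbX, hbX', hbb, hbb', hbyb, hbyb', hyby, hyby', mul_zero, zero_mul, smul_zero, sub_zero, zero_sub]
  · have key : y * ((1 - h • (X * (y * X))) * (X * ((1 - h • (X * (y * X))) * y))) = 0 := by
      simp only [mul_assoc, mul_sub, sub_mul, mul_one, one_mul, smul_mul_assoc, mul_smul_comm, smul_smul, hXX, hXX',
        hXb, hXb', hbX, hbX', hbb, hbb', hbyb, hbyb', hyby, hyby', mul_zero, zero_mul, smul_zero, sub_zero, zero_sub]
      have e : y * (X * y) = (h + h) • (y * (X * y)) := by rw [hh, one_smul]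
      rw [sub_sub, ← add_smul, ← e, sub_self]
    generalize (1 - h • (X * (y * X))) = u at key ⊢
    have : u * (y * u) * (X * (u * (y * u))) = u * ((y * (u * (X * (u * y)))) * u) := by simp only [mul_assoc]
    rw [this, key, zero_mul, mul_zero]

/-- stage A2: make the pseudo inverse square to zero. -/
theorem stageA2 {h : F} (hh : h + h = 1) {X b y : R} (hXX : X * X = b) (hXb : X * b = 0) (hbX : b * X = 0)
    (hbyb : b * (y * b) = b) (hyby : y * (b * y) = y) (hyXy : y * (X * y) = 0) :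
    ∀ v v' : R, v = 1 - h • (b * y) → v' = 1 - h • (y * b) → b * ((v * (y * v')) * b) = b ∧
      (v * (y * v')) * (b * (v * (y * v'))) = v * (y * v') ∧
      (v * (y * v')) * (X * (v * (y * v'))) = 0 ∧ (v * (y * v')) * (v * (y * v')) = 0 := by
  have hbb : b * b = 0 := by rw [← hXX, mul_assoc, hXX, hXb, mul_zero]
  have hXX' : ∀ t, X * (X * t) = b * t := fun t => by rw [← mul_assoc, hXX]
  have hXb' : ∀ t, X * (b * t) = 0 := fun t => by rw [← mul_assoc, hXb, zero_mul]
  have hbX' : ∀ t, b * (X * t) = 0 := fun t => by rw [← mul_assoc, hbX, zero_mul]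
  have hbb' : ∀ t, b * (b * t) = 0 := fun t => by rw [← mul_assoc, hbb, zero_mul]
  have hbyb' : ∀ t, b * (y * (b * t)) = b * t := fun t => by
    rw [← mul_assoc y, ← mul_assoc b, hbyb]
  have hyby' : ∀ t, y * (b * (y * t)) = y * t := fun t => by
    rw [← mul_assoc b, ← mul_assoc y, hyby]
  have hyXy' : ∀ t, y * (X * (y * t)) = 0 := fun t => by
    rw [← mul_assoc X, ← mul_assoc y, hyXy, zero_mul]
  rintro v v' rfl rfl
  refine ⟨?_, ?_, ?_, ?_⟩
  · simp only [mul_assoc, mul_sub, sub_mul, mul_one, one_mul, smul_mul_assoc, mul_smul_comm, smul_smul, hXX, hXX',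
      hXb, hXb', hbX, hbX', hbb, hbb', hbyb, hbyb', hyby, hyby', mul_zero, zero_mul, smul_zero, sub_zero, zero_sub]
  · simp only [mul_assoc, mul_sub, sub_mul, mul_one, one_mul, smul_mul_assoc, mul_smul_comm, smul_smul, hXX, hXX',
      hXb, hXb', hbX, hbX', hbb, hbb', hbyb, hbyb', hyby, hyby', mul_zero, zero_mul, smul_zero, sub_zero, zero_sub]
  · simp only [mul_assoc, mul_sub, sub_mul, mul_one, one_mul, smul_mul_assoc, mul_smul_comm, smul_smul, hXX, hXX',
      hXb, hXb', hbX, hbX', hbb, hbb', hbyb, hbyb', hyby, hyby', hyXy, hyXy', mul_zero, zero_mul, smul_zero, sub_zero,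
      zero_sub]
  · have key : y * ((1 - h • (y * b)) * ((1 - h • (b * y)) * y)) = 0 := by
      simp only [mul_assoc, mul_sub, sub_mul, mul_one, one_mul, smul_mul_assoc, mul_smul_comm, smul_smul, hXX, hXX',
        hXb, hXb', hbX, hbX', hbb, hbb', hbyb, hbyb', hyby, hyby', mul_zero, zero_mul, smul_zero, sub_zero, zero_sub]
      have e : y * y = (h + h) • (y * y) := by rw [hh, one_smul]
      rw [sub_sub, ← add_smul, ← e, sub_self]
    generalize (1 - h • (y * b)) = v' at key ⊢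
    generalize (1 - h • (b * y)) = v at key ⊢
    have : v * (y * v') * (v * (y * v')) = v * ((y * (v' * (v * y))) * v') := by simp only [mul_assoc]
    rw [this, key, zero_mul, mul_zero]

/-- stage B: pseudo inverse of a square zero element made square zero. -/
theorem stageB {h : F} (hh : h + h = 1) {Z w : R} (hZZ : Z * Z = 0)
    (hZwZ : Z * (w * Z) = Z) (hwZw : w * (Z * w) = w) :
    ∀ v v' : R, v = 1 - h • (Z * w) → v' = 1 - h • (w * Z) → Z * ((v * (w * v')) * Z) = Z ∧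
      (v * (w * v')) * (Z * (v * (w * v'))) = v * (w * v') ∧ (v * (w * v')) * (v * (w * v')) = 0 := by
  have hZZ' : ∀ t, Z * (Z * t) = 0 := fun t => by rw [← mul_assoc, hZZ, zero_mul]
  have hZwZ' : ∀ t, Z * (w * (Z * t)) = Z * t := fun t => by
    rw [← mul_assoc w, ← mul_assoc Z, hZwZ]
  have hwZw' : ∀ t, w * (Z * (w * t)) = w * t := fun t => by
    rw [← mul_assoc Z, ← mul_assoc w, hwZw]
  rintro v v' rfl rfl
  refine ⟨?_, ?_, ?_⟩
  · simp only [mul_assoc, mul_sub, sub_mul, mul_one, one_mul, smul_mul_assoc, mul_smul_comm, smul_smul, hZZ, hZZ',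
      hZwZ, hZwZ', hwZw, hwZw', mul_zero, zero_mul, smul_zero, sub_zero, zero_sub]
  · simp only [mul_assoc, mul_sub, sub_mul, mul_one, one_mul, smul_mul_assoc, mul_smul_comm, smul_smul, hZZ, hZZ',
      hZwZ, hZwZ', hwZw, hwZw', mul_zero, zero_mul, smul_zero, sub_zero, zero_sub]
  · have key : w * ((1 - h • (w * Z)) * ((1 - h • (Z * w)) * w)) = 0 := by
      simp only [mul_assoc, mul_sub, sub_mul, mul_one, one_mul, smul_mul_assoc, mul_smul_comm, smul_smul, hZZ, hZZ',
        hZwZ, hZwZ', hwZw, hwZw', mul_zero, zero_mul, smul_zero, sub_zero, zero_sub]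
      have e : w * w = (h + h) • (w * w) := by rw [hh, one_smul]
      rw [sub_sub, ← add_smul, ← e, sub_self]
    generalize (1 - h • (w * Z)) = v' at key ⊢
    generalize (1 - h • (Z * w)) = v at key ⊢
    have : v * (w * v') * (v * (w * v')) = v * ((w * (v' * (v * w))) * v') := by simp only [mul_assoc]
    rw [this, key, zero_mul, mul_zero]

/-- linear combinations of complete orthogonal idempotents multiply pointwise. -/
theorem idem_mul {n : ℕ} {e : Fin n → R} (he : ∀ i j, e i * e j = if i = j then e i else 0) (c d : Fin n → F) :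
    (∑ i, c i • e i) * (∑ i, d i • e i) = ∑ i, (c i * d i) • e i := by
  rw [Finset.sum_mul_sum]
  refine Finset.sum_congr rfl fun i _ => ?_
  rw [Finset.sum_eq_single i]
  · rw [smul_mul_assoc, mul_smul_comm, he, if_pos rfl, smul_smul]
  · intro j _ hj
    rw [smul_mul_assoc, mul_smul_comm, he, if_neg (Ne.symm hj), smul_zero, smul_zero]
  · intro hi
    exact absurd (Finset.mem_univ i) hi

/-- the six idempotents. -/
theorem idems {X b y Z w f : R} (hXX : X * X = b) (hXb : X * b = 0) (hbX : b * X = 0)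
    (hbyb : b * (y * b) = b) (hyby : y * (b * y) = y) (hyXy : y * (X * y) = 0) (hyy : y * y = 0)
    (hf : f = 1 - y * b - X * (y * X) - b * y) (hZ : Z = X * f)
    (hZwZ : Z * (w * Z) = Z) (hwZw : w * (Z * w) = w) (hww : w * w = 0) (hfw : f * w = w) (hwf : w * f = w) :
    ∀ e : Fin 6 → R, e = ![y * b, X * (y * X), b * y, w * Z, Z * w, f - w * Z - Z * w] →
      (∀ i j, e i * e j = if i = j then e i else 0) ∧ ∑ i, e i = 1 ∧
      X * e 0 = e 1 * X ∧ X * e 1 = e 2 * X ∧ X * e 2 = 0 ∧ e 0 * X = 0 ∧ X * e 3 = e 4 * X ∧ X * e 4 = 0 ∧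
      e 3 * X = 0 ∧ X * e 5 = 0 ∧ e 5 * X = 0 := by
  have hbb : b * b = 0 := by rw [← hXX, mul_assoc, hXX, hXb, mul_zero]
  have hXX' : ∀ t, X * (X * t) = b * t := fun t => by rw [← mul_assoc, hXX]
  have hXb' : ∀ t, X * (b * t) = 0 := fun t => by rw [← mul_assoc, hXb, zero_mul]
  have hbX' : ∀ t, b * (X * t) = 0 := fun t => by rw [← mul_assoc, hbX, zero_mul]
  have hbb' : ∀ t, b * (b * t) = 0 := fun t => by rw [← mul_assoc, hbb, zero_mul]
  have hbyb' : ∀ t, b * (y * (b * t)) = b * t := fun t => by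
    rw [← mul_assoc y, ← mul_assoc b, hbyb]
  have hyby' : ∀ t, y * (b * (y * t)) = y * t := fun t => by
    rw [← mul_assoc b, ← mul_assoc y, hyby]
  have hyXy' : ∀ t, y * (X * (y * t)) = 0 := fun t => by
    rw [← mul_assoc X, ← mul_assoc y, hyXy, zero_mul]
  have hyy' : ∀ t, y * (y * t) = 0 := fun t => by rw [← mul_assoc, hyy, zero_mul]
  -- the orthogonality of `f`
  have fe0 : f * (y * b) = 0 := by
    subst hf
    simp only [mul_assoc, mul_sub, sub_mul, mul_one, one_mul, hXX, hXX', hXb, hXb', hbX, hbX', hbb, hbb', hbyb, hbyb',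
      hyby, hyby', hyXy, hyXy', hyy, hyy', mul_zero, zero_mul, sub_zero, zero_sub, sub_self]
  have fe1 : f * (X * (y * X)) = 0 := by
    subst hf
    simp only [mul_assoc, mul_sub, sub_mul, mul_one, one_mul, hXX, hXX', hXb, hXb', hbX, hbX', hbb, hbb', hbyb, hbyb',
      hyby, hyby', hyXy, hyXy', hyy, hyy', mul_zero, zero_mul, sub_zero, zero_sub, sub_self]
  have fe2 : f * (b * y) = 0 := by
    subst hf
    simp only [mul_assoc, mul_sub, sub_mul, mul_one, one_mul, hXX, hXX', hXb, hXb', hbX, hbX', hbb, hbb', hbyb, hbyb',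
      hyby, hyby', hyXy, hyXy', hyy, hyy', mul_zero, zero_mul, sub_zero, zero_sub, sub_self]
  have e0f : y * (b * f) = 0 := by
    subst hf
    simp only [mul_assoc, mul_sub, sub_mul, mul_one, one_mul, hXX, hXX', hXb, hXb', hbX, hbX', hbb, hbb', hbyb, hbyb',
      hyby, hyby', hyXy, hyXy', hyy, hyy', mul_zero, zero_mul, sub_zero, zero_sub, sub_self]
  have e1f : X * (y * (X * f)) = 0 := by
    subst hf
    simp only [mul_assoc, mul_sub, sub_mul, mul_one, one_mul, hXX, hXX', hXb, hXb', hbX, hbX', hbb, hbb', hbyb, hbyb',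
      hyby, hyby', hyXy, hyXy', hyy, hyy', mul_zero, zero_mul, sub_zero, zero_sub, sub_self]
  have e2f : b * (y * f) = 0 := by
    subst hf
    simp only [mul_assoc, mul_sub, sub_mul, mul_one, one_mul, hXX, hXX', hXb, hXb', hbX, hbX', hbb, hbb', hbyb, hbyb',
      hyby, hyby', hyXy, hyXy', hyy, hyy', mul_zero, zero_mul, sub_zero, zero_sub, sub_self]
  have bf : b * f = 0 := by
    subst hf
    simp only [mul_assoc, mul_sub, sub_mul, mul_one, one_mul, hXX, hXX', hXb, hXb', hbX, hbX', hbb, hbb', hbyb, hbyb',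
      hyby, hyby', hyXy, hyXy', hyy, hyy', mul_zero, zero_mul, sub_zero, zero_sub, sub_self]
  have ff : f * f = f := by
    nth_rw 2 [hf]
    rw [mul_sub, mul_sub, mul_sub, mul_one, fe0, fe1, fe2]
    simp
  have Xf : X * f = f * X := by
    subst hf
    simp only [mul_assoc, mul_sub, sub_mul, mul_one, one_mul, hXX, hXX', hXb, hXb', hbX, hbX', hbb, hbb', hbyb, hbyb',
      hyby, hyby', hyXy, hyXy', hyy, hyy', mul_zero, zero_mul, sub_zero, zero_sub, sub_self]
  have fX' : ∀ t, f * (X * t) = X * (f * t) := fun t => by rw [← mul_assoc, ← Xf, mul_assoc]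
  have ff' : ∀ t, f * (f * t) = f * t := fun t => by rw [← mul_assoc, ff]
  have hZ2 : Z = f * X := by rw [hZ, Xf]
  have ZZ : Z * Z = 0 := by
    nth_rw 2 [hZ]
    rw [hZ2, mul_assoc, ← mul_assoc X, hXX, bf, mul_zero]
  have XZ : X * Z = 0 := by rw [hZ, ← mul_assoc, hXX, bf]
  have ZX : Z * X = 0 := by rw [hZ, mul_assoc, ← Xf, ← mul_assoc, hXX, bf]
  have fZ : f * Z = Z := by rw [hZ2, ← mul_assoc, ff]
  have Zf : Z * f = Z := by rw [hZ, mul_assoc, ff]
  have Xf2 : X * f = Z := hZ.symm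
  have fX2 : f * X = Z := hZ2.symm
  have fX2' : ∀ t, f * (X * t) = Z * t := fun t => by rw [← mul_assoc, fX2]
  have Xf2' : ∀ t, X * (f * t) = Z * t := fun t => by rw [← mul_assoc, Xf2]
  have bf' : ∀ t, b * (f * t) = 0 := fun t => by rw [← mul_assoc, bf, zero_mul]
  have bw : b * w = 0 := by rw [← hfw, bf']
  have bw' : ∀ t, b * (w * t) = 0 := fun t => by rw [← mul_assoc, bw, zero_mul]
  have bZ : b * Z = 0 := by rw [← fZ, bf']
  have bZ' : ∀ t, b * (Z * t) = 0 := fun t => by rw [← mul_assoc, bZ, zero_mul]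
  have Zb : Z * b = 0 := by rw [hZ2, mul_assoc, hXb, mul_zero]
  have Zb' : ∀ t, Z * (b * t) = 0 := fun t => by rw [← mul_assoc, Zb, zero_mul]
  have XZ' : ∀ t, X * (Z * t) = 0 := fun t => by rw [← mul_assoc, XZ, zero_mul]
  have ZX' : ∀ t, Z * (X * t) = 0 := fun t => by rw [← mul_assoc, ZX, zero_mul]
  have ZZ' : ∀ t, Z * (Z * t) = 0 := fun t => by rw [← mul_assoc, ZZ, zero_mul]
  have Xw : X * w = Z * w := by rw [← Xf2', hfw]
  have Xw' : ∀ t, X * (w * t) = Z * (w * t) := fun t => by rw [← mul_assoc, Xw, mul_assoc]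
  have wX : w * X = w * Z := by rw [← fX2, ← mul_assoc, hwf]
  have wX' : ∀ t, w * (X * t) = w * (Z * t) := fun t => by rw [← mul_assoc, wX, mul_assoc]
  have XyZ : X * (y * Z) = 0 := by rw [hZ, e1f]
  have XyZ' : ∀ t, X * (y * (Z * t)) = 0 := fun t => by rw [← mul_assoc y, ← mul_assoc X, XyZ, zero_mul]
  have ZyX : Z * (y * X) = 0 := by rw [hZ2, mul_assoc, fe1]
  have ZyX' : ∀ t, Z * (y * (X * t)) = 0 := fun t => by rw [← mul_assoc y, ← mul_assoc Z, ZyX, zero_mul]
  have byf : b * (y * f) = 0 := e2f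
  have byf' : ∀ t, b * (y * (f * t)) = 0 := fun t => by rw [← mul_assoc y, ← mul_assoc b, byf, zero_mul]
  have byw : b * (y * w) = 0 := by rw [← hfw, byf']
  have byw' : ∀ t, b * (y * (w * t)) = 0 := fun t => by rw [← mul_assoc y, ← mul_assoc b, byw, zero_mul]
  have byZ : b * (y * Z) = 0 := by rw [← fZ, byf']
  have byZ' : ∀ t, b * (y * (Z * t)) = 0 := fun t => by rw [← mul_assoc y, ← mul_assoc b, byZ, zero_mul]
  have Zyb : Z * (y * b) = 0 := by rw [hZ, mul_assoc, fe0, mul_zero]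
  have wyb : w * (y * b) = 0 := by rw [← hwf, mul_assoc, fe0, mul_zero]
  have wby : w * (b * y) = 0 := by rw [← hwf, mul_assoc, fe2, mul_zero]
  have hZwZ' : ∀ t, Z * (w * (Z * t)) = Z * t := fun t => by
    rw [← mul_assoc w, ← mul_assoc Z, hZwZ]
  have hwZw' : ∀ t, w * (Z * (w * t)) = w * t := fun t => by
    rw [← mul_assoc Z, ← mul_assoc w, hwZw]
  have hww' : ∀ t, w * (w * t) = 0 := fun t => by rw [← mul_assoc, hww, zero_mul]
  have fw' : ∀ t, f * (w * t) = w * t := fun t => by rw [← mul_assoc, hfw]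
  have wf' : ∀ t, w * (f * t) = w * t := fun t => by rw [← mul_assoc, hwf]
  have fZ' : ∀ t, f * (Z * t) = Z * t := fun t => by rw [← mul_assoc, fZ]
  have Zf' : ∀ t, Z * (f * t) = Z * t := fun t => by rw [← mul_assoc, Zf]
  rintro e rfl
  have hsum : y * b + X * (y * X) + b * y + w * Z + Z * w + (f - w * Z - Z * w) = 1 := by
    rw [hf]; abel

  refine ⟨?_, ?_, ?_, ?_, ?_, ?_, ?_, ?_, ?_, ?_, ?_⟩
  · intro i j
    fin_cases i <;> fin_cases j <;>
    simp [mul_assoc, mul_sub, sub_mul, hXX, hXX', hXb, hXb', hbX, hbX', hbb, hbb', hbyb, hbyb', hyby, hyby', hyXy,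
      hyXy', hyy, hyy', fe0, fe1, fe2, e0f, e2f, bf, bf', ff, ff', ZZ, ZZ', XZ, XZ', ZX, ZX', fZ, fZ', Zf, Zf', Xf2,
      fX2, fX2', Xf2', bw, bw', bZ, bZ', Zb, Zb', Xw, Xw', wX, wX', XyZ, XyZ', ZyX, ZyX', byw, byw', byZ, byZ', Zyb,
      wyb, wby, hZwZ, hZwZ', hwZw, hwZw', hww, hww', hfw, hwf, fw', wf']
  · simp only [Fin.sum_univ_six]
    exact hsum
  all_goals
    simp [mul_assoc, mul_sub, sub_mul, hXX, hXX', hXb, hXb', hbX, hbX', hbb, hbb', hbyb, hbyb', hyby, hyby', hyXy,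
      hyXy', hyy, hyy', fe0, fe1, fe2, e0f, e2f, bf, bf', ff, ff', ZZ, ZZ', XZ, XZ', ZX, ZX', fZ, fZ', Zf, Zf', Xf2,
      fX2, fX2', Xf2', bw, bw', bZ, bZ', Zb, Zb', Xw, Xw', wX, wX', XyZ, XyZ', ZyX, ZyX', byw, byw', byZ, byZ', Zyb,
      wyb, wby, hZwZ, hZwZ', hwZw, hwZw', hww, hww', hfw, hwf, fw', wf']


/-- the complement idempotent. -/
theorem fprops {X b y f : R} (hXX : X * X = b) (hXb : X * b = 0) (hbX : b * X = 0)
    (hbyb : b * (y * b) = b) (hyby : y * (b * y) = y) (hyXy : y * (X * y) = 0) (hyy : y * y = 0)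
    (hf : f = 1 - y * b - X * (y * X) - b * y) : f * f = f ∧ X * f = f * X ∧ b * f = 0 := by
  have hbb : b * b = 0 := by rw [← hXX, mul_assoc, hXX, hXb, mul_zero]
  have hXX' : ∀ t, X * (X * t) = b * t := fun t => by rw [← mul_assoc, hXX]
  have hXb' : ∀ t, X * (b * t) = 0 := fun t => by rw [← mul_assoc, hXb, zero_mul]
  have hbX' : ∀ t, b * (X * t) = 0 := fun t => by rw [← mul_assoc, hbX, zero_mul]
  have hbb' : ∀ t, b * (b * t) = 0 := fun t => by rw [← mul_assoc, hbb, zero_mul]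
  have hbyb' : ∀ t, b * (y * (b * t)) = b * t := fun t => by
    rw [← mul_assoc y, ← mul_assoc b, hbyb]
  have hyby' : ∀ t, y * (b * (y * t)) = y * t := fun t => by
    rw [← mul_assoc b, ← mul_assoc y, hyby]
  have hyXy' : ∀ t, y * (X * (y * t)) = 0 := fun t => by
    rw [← mul_assoc X, ← mul_assoc y, hyXy, zero_mul]
  have hyy' : ∀ t, y * (y * t) = 0 := fun t => by rw [← mul_assoc, hyy, zero_mul]
  subst hf
  refine ⟨?_, ?_, ?_⟩
  · simp only [mul_assoc, mul_sub, sub_mul, mul_one, one_mul, hXX, hXX', hXb, hXb', hbX, hbX', hbb, hbb', hbyb, hbyb',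
      hyby, hyby', hyXy, hyXy', hyy, hyy', mul_zero, zero_mul, sub_zero, zero_sub, sub_self]
  · simp only [mul_assoc, mul_sub, sub_mul, mul_one, one_mul, hXX, hXX', hXb, hXb', hbX, hbX', hbb, hbb', hbyb, hbyb',
      hyby, hyby', hyXy, hyXy', hyy, hyy', mul_zero, zero_mul, sub_zero, zero_sub, sub_self]
  · simp only [mul_assoc, mul_sub, sub_mul, mul_one, one_mul, hXX, hXX', hXb, hXb', hbX, hbX', hbb, hbb', hbyb, hbyb',
      hyby, hyby', hyXy, hyXy', hyy, hyy', mul_zero, zero_mul, sub_zero, zero_sub, sub_self]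

end Alg

section Op

variable {F V : Type*} [Field F] [AddCommGroup V] [Module F V]

/-- adjoint pair of operators with respect to the polar form. -/
def Adj (Q : QuadraticForm F V) (f f' : Module.End F V) : Prop := ∀ v w, polar Q (f v) w = polar Q v (f' w)

variable {Q : QuadraticForm F V} {f f' k k' : Module.End F V}

theorem Adj.symm (h : Adj Q f f') : Adj Q f' f := fun v w => by
  rw [polar_comm, ← h, polar_comm]

theorem Adj.mul (h : Adj Q f f') (h' : Adj Q k k') : Adj Q (f * k) (k' * f') := fun v w => by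
  rw [Module.End.mul_apply, h, h', Module.End.mul_apply]

theorem Adj.sub (h : Adj Q f f') (h' : Adj Q k k') : Adj Q (f - k) (f' - k') := fun v w => by
  rw [LinearMap.sub_apply, LinearMap.sub_apply, polar_sub_left, polar_sub_right, h, h']

theorem Adj.add (h : Adj Q f f') (h' : Adj Q k k') : Adj Q (f + k) (f' + k') := fun v w => by
  rw [LinearMap.add_apply, LinearMap.add_apply, polar_add_left, polar_add_right, h, h']

theorem Adj.smul (c : F) (h : Adj Q f f') : Adj Q (c • f) (c • f') := fun v w => by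
  rw [LinearMap.smul_apply, LinearMap.smul_apply, polar_smul_left, polar_smul_right, h]

theorem Adj.one : Adj Q (1 : Module.End F V) 1 := fun _ _ => rfl

theorem Adj.uniq (hQ : ∀ v, (∀ w, polar Q v w = 0) → v = 0) (h : Adj Q f k) (h' : Adj Q f k') : k = k' := by
  ext w
  rw [← sub_eq_zero]
  apply hQ
  intro v
  rw [polar_comm, polar_sub_right, ← h, ← h', sub_self]

variable {ι : Type*} {g : ι → (V ≃ₗ[F] V)}

/-- commutes with the `g i`. -/
def Com (g : ι → (V ≃ₗ[F] V)) (f : Module.End F V) : Prop := ∀ i v, f (g i v) = g i (f v)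

theorem Com.mul (h : Com g f) (h' : Com g k) : Com g (f * k) := fun i v => by
  rw [Module.End.mul_apply, h', h, Module.End.mul_apply]

theorem Com.sub (h : Com g f) (h' : Com g k) : Com g (f - k) := fun i v => by
  rw [LinearMap.sub_apply, LinearMap.sub_apply, h, h', map_sub]

theorem Com.add (h : Com g f) (h' : Com g k) : Com g (f + k) := fun i v => by
  rw [LinearMap.add_apply, LinearMap.add_apply, h, h', map_add]

theorem Com.smul (c : F) (h : Com g f) : Com g (c • f) := fun i v => by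
  rw [LinearMap.smul_apply, LinearMap.smul_apply, h, map_smul]

theorem Com.one : Com g (1 : Module.End F V) := fun _ _ => rfl

end Op

open H566.RC.Torus in
theorem exists_torus {F V : Type*} [Field F] [AddCommGroup V] [Module F V] [FiniteDimensional F V]
    {Q : QuadraticForm F V} (hQ : ∀ v, (∀ w, polar Q v w = 0) → v = 0) (h2 : (2 : F) ≠ 0) {X : V →ₗ[F] V}
    (hX : ∀ v w, polar Q (X v) w = - polar Q v (X w)) (h3 : ∀ v, X (X (X v)) = 0) {ι : Type*} [Finite ι]
    {g : ι → (V ≃ₗ[F] V)} (hg : ∀ i v, Q (g i v) = Q v) {r : ι → ℕ} (hr : ∀ i, (r i : F) ≠ 0)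
    (hpow : ∀ i, g i ^ r i = 1) (hc : ∀ i j, g i * g j = g j * g i) (hgX : ∀ i v, g i (X v) = X (g i v)) :
    ∃ T : F → (V ≃ₗ[F] V), ∀ a, a ≠ 0 → (∀ v, Q (T a v) = Q v) ∧ (∀ v, T a (X v) = a ^ 2 • X (T a v)) ∧
      ∀ i, T a * g i = g i * T a := by
  classical
  obtain ⟨h, hh⟩ : ∃ h : F, h + h = 1 := ⟨2⁻¹, by rw [← two_mul, mul_inv_cancel₀ h2]⟩
  have hgp : ∀ i v w, polar Q (g i v) (g i w) = polar Q v w := fun i v w => by
    rw [polar, polar, ← map_add, hg, hg, hg]
  -- `X`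
  obtain ⟨X, rfl⟩ : ∃ Y : Module.End F V, Y = X := ⟨X, rfl⟩
  have cX : Com g X := fun i v => (hgX i v).symm
  have aX : Adj Q X (-X) := fun v w => by rw [hX, LinearMap.neg_apply, polar_neg_right]
  obtain ⟨b, hXX⟩ : ∃ b, X * X = b := ⟨_, rfl⟩
  have hXb : X * b = 0 := by rw [← hXX]; ext v; exact h3 v
  have hbX : b * X = 0 := by rw [← hXX]; ext v; exact h3 v
  have cb : Com g b := hXX ▸ cX.mul cX
  have ab : Adj Q b b := by
    have := aX.mul aX
    rwa [neg_mul_neg, hXX] at this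
  -- the pseudo inverse of `b`
  obtain ⟨y, cy, ay, hbyb, hyby⟩ : ∃ y : Module.End F V, Com g y ∧ Adj Q y y ∧ b * (y * b) = b ∧ y * (b * y) = y := by
    obtain ⟨S, hS, cS⟩ := exists_ginv_comm hr hpow hc b cb
    obtain ⟨S', aS⟩ := exists_adj hQ S
    have cS' : Com g S' := fun i => adj_comm hQ aS (hgp i) (cS i)
    have hS1 : b * (S * b) = b := LinearMap.ext hS
    have hS2 : b * (S' * b) = b := by
      have := (ab.mul ((show Adj Q S S' from aS).mul ab))
      rw [hS1, mul_assoc] at this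
      exact this.uniq hQ ab
    obtain ⟨y, hy⟩ : ∃ y, y = h • (S + S') := ⟨_, rfl⟩
    have cy : Com g y := hy ▸ (Com.add cS cS').smul h
    have ay : Adj Q y y := by
      have := ((show Adj Q S S' from aS).add (show Adj Q S S' from aS).symm).smul h
      rwa [add_comm S' S, ← hy] at this
    have h1 : b * (y * b) = b := by
      rw [hy, smul_mul_assoc, mul_smul_comm, add_mul, mul_add, hS1, hS2, smul_add, ← add_smul, hh, one_smul]
    refine ⟨y * (b * y), cy.mul (cb.mul cy), ?_, ?_, ?_⟩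
    · have := ay.mul (ab.mul ay)
      rwa [mul_assoc] at this
    · rw [mul_assoc, mul_assoc, ← mul_assoc b y, ← mul_assoc (b * y), mul_assoc b y b, h1, h1]
    · have h1' : ∀ t, b * (y * (b * t)) = b * t := fun t => by rw [← mul_assoc y, ← mul_assoc b, h1]
      simp only [mul_assoc, h1']
  -- make it isotropic
  obtain ⟨y, cy, ay, hbyb, hyby, hyXy⟩ : ∃ y : Module.End F V, Com g y ∧ Adj Q y y ∧ b * (y * b) = b ∧
      y * (b * y) = y ∧ y * (X * y) = 0 := by
    obtain ⟨u, hu⟩ : ∃ u, u = 1 - h • (X * (y * X)) := ⟨_, rfl⟩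
    have cu : Com g u := hu ▸ Com.one.sub ((cX.mul (cy.mul cX)).smul h)
    have au : Adj Q u u := by
      have := Adj.one.sub ((aX.mul (ay.mul aX)).smul h)
      rwa [mul_neg, neg_mul, neg_mul, neg_neg, mul_assoc, ← hu] at this
    obtain ⟨e1, e2, e3⟩ := stageA hh hXX hXb hbX hbyb hyby u hu
    refine ⟨u * (y * u), cu.mul (cy.mul cu), ?_, e1, e2, e3⟩
    have := au.mul (ay.mul au)
    rwa [mul_assoc] at this
  obtain ⟨y, cy, ay, hbyb, hyby, hyXy, hyy⟩ : ∃ y : Module.End F V, Com g y ∧ Adj Q y y ∧ b * (y * b) = b ∧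
      y * (b * y) = y ∧ y * (X * y) = 0 ∧ y * y = 0 := by
    obtain ⟨u, hu⟩ : ∃ u, u = 1 - h • (b * y) := ⟨_, rfl⟩
    obtain ⟨u', hu'⟩ : ∃ u, u = 1 - h • (y * b) := ⟨_, rfl⟩
    have cu : Com g u := hu ▸ Com.one.sub ((cb.mul cy).smul h)
    have cu' : Com g u' := hu' ▸ Com.one.sub ((cy.mul cb).smul h)
    have au : Adj Q u u' := by
      have := Adj.one.sub ((ab.mul ay).smul h)
      rwa [← hu, ← hu'] at this
    obtain ⟨e1, e2, e3, e4⟩ := stageA2 hh hXX hXb hbX hbyb hyby hyXy u u' hu hu'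
    refine ⟨u * (y * u'), cu.mul (cy.mul cu'), ?_, e1, e2, e3, e4⟩
    have := au.mul (ay.mul au.symm)
    rwa [mul_assoc] at this
  -- the complement
  obtain ⟨f, hf⟩ : ∃ f, f = 1 - y * b - X * (y * X) - b * y := ⟨_, rfl⟩
  obtain ⟨ff, Xf, bf⟩ := fprops hXX hXb hbX hbyb hyby hyXy hyy hf
  have cf : Com g f := hf ▸ ((Com.one.sub (cy.mul cb)).sub (cX.mul (cy.mul cX))).sub (cb.mul cy)
  have af : Adj Q f f := by
    have := ((Adj.one.sub (ay.mul ab)).sub (aX.mul (ay.mul aX))).sub (ab.mul ay)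
    have e : 1 - b * y - X * (y * X) - y * b = f := by rw [hf]; abel
    rw [mul_neg, neg_mul, neg_mul, neg_neg, mul_assoc, e, ← hf] at this
    exact this
  obtain ⟨Z, hZ⟩ : ∃ Z, Z = X * f := ⟨_, rfl⟩
  have hZ2 : Z = f * X := by rw [hZ, Xf]
  have cZ : Com g Z := hZ ▸ cX.mul cf
  have aZ : Adj Q Z (-Z) := by
    have := aX.mul af
    rwa [mul_neg, ← hZ2, ← hZ] at this
  have ZZ : Z * Z = 0 := by
    nth_rw 2 [hZ]
    rw [hZ2, mul_assoc, ← mul_assoc X, hXX, bf, mul_zero]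
  have fZ : f * Z = Z := by rw [hZ2, ← mul_assoc, ff]
  have Zf : Z * f = Z := by rw [hZ, mul_assoc, ff]
  obtain ⟨w, cw, aw, hZwZ, hwZw, fw, wf⟩ : ∃ w : Module.End F V, Com g w ∧ Adj Q w (-w) ∧ Z * (w * Z) = Z ∧
      w * (Z * w) = w ∧ f * w = w ∧ w * f = w := by
    obtain ⟨S, hS, cS⟩ := exists_ginv_comm hr hpow hc Z cZ
    obtain ⟨S', aS⟩ := exists_adj hQ S
    have cS' : Com g S' := fun i => adj_comm hQ aS (hgp i) (cS i)
    have aS : Adj Q S S' := aS
    have hS1 : Z * (S * Z) = Z := LinearMap.ext hS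
    have hS2 : Z * (S' * Z) = -Z := by
      have := aZ.mul (aS.mul aZ)
      rw [hS1, mul_assoc, mul_neg, mul_neg, neg_mul, neg_neg] at this
      exact this.uniq hQ aZ
    obtain ⟨w, hw⟩ : ∃ y, y = h • (S - S') := ⟨_, rfl⟩
    have cw : Com g w := hw ▸ (Com.sub cS cS').smul h
    have aw : Adj Q w (-w) := by
      have := (aS.sub aS.symm).smul h
      rwa [← hw, ← neg_sub S S', smul_neg, ← hw] at this
    have h1 : Z * (w * Z) = Z := by
      rw [hw, smul_mul_assoc, mul_smul_comm, sub_mul, mul_sub, hS1, hS2, sub_neg_eq_add, smul_add, ← add_smul, hh,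
        one_smul]
    obtain ⟨w₁, hw₁⟩ : ∃ t, t = f * (w * f) := ⟨_, rfl⟩
    have cw₁ : Com g w₁ := hw₁ ▸ cf.mul (cw.mul cf)
    have aw₁ : Adj Q w₁ (-w₁) := by
      have := af.mul (aw.mul af)
      rwa [mul_neg, neg_mul, mul_assoc, ← hw₁] at this
    have h2 : Z * (w₁ * Z) = Z := by
      rw [hw₁, mul_assoc, mul_assoc, fZ, ← mul_assoc Z f, Zf, h1]
    have fw₁ : f * w₁ = w₁ := by rw [hw₁, ← mul_assoc, ff]
    have w₁f : w₁ * f = w₁ := by rw [hw₁, mul_assoc, mul_assoc, ff]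
    have h2' : ∀ t, Z * (w₁ * (Z * t)) = Z * t := fun t => by rw [← mul_assoc w₁, ← mul_assoc Z, h2]
    refine ⟨w₁ * (Z * w₁), cw₁.mul (cZ.mul cw₁), ?_, ?_, ?_, ?_, ?_⟩
    · have := aw₁.mul (aZ.mul aw₁)
      rwa [neg_mul_neg, mul_neg, mul_assoc] at this
    · simp only [mul_assoc, h2, h2']
    · simp only [mul_assoc, h2, h2']
    · rw [← mul_assoc, fw₁]
    · rw [mul_assoc, mul_assoc, w₁f]
  obtain ⟨w, cw, aw, hZwZ, hwZw, hww, fw, wf⟩ : ∃ w : Module.End F V, Com g w ∧ Adj Q w (-w) ∧ Z * (w * Z) = Z ∧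
      w * (Z * w) = w ∧ w * w = 0 ∧ f * w = w ∧ w * f = w := by
    obtain ⟨u, hu⟩ : ∃ u, u = 1 - h • (Z * w) := ⟨_, rfl⟩
    obtain ⟨u', hu'⟩ : ∃ u, u = 1 - h • (w * Z) := ⟨_, rfl⟩
    have cu : Com g u := hu ▸ Com.one.sub ((cZ.mul cw).smul h)
    have cu' : Com g u' := hu' ▸ Com.one.sub ((cw.mul cZ).smul h)
    have au : Adj Q u u' := by
      have := Adj.one.sub ((aZ.mul aw).smul h)
      rwa [neg_mul_neg, ← hu, ← hu'] at this
    obtain ⟨e1, e2, e3⟩ := stageB hh ZZ hZwZ hwZw u u' hu hu'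
    have fu : f * u = u * f := by
      rw [hu, mul_sub, sub_mul, mul_one, one_mul, mul_smul_comm, smul_mul_assoc, ← mul_assoc, fZ, mul_assoc, wf]
    have fu' : f * u' = u' * f := by
      rw [hu', mul_sub, sub_mul, mul_one, one_mul, mul_smul_comm, smul_mul_assoc, ← mul_assoc, fw, mul_assoc, Zf]
    refine ⟨u * (w * u'), cu.mul (cw.mul cu'), ?_, e1, e2, e3, ?_, ?_⟩
    · have := au.mul (aw.mul au.symm)
      rwa [mul_neg, neg_mul, mul_assoc] at this
    · rw [← mul_assoc, fu, mul_assoc, ← mul_assoc f, fw]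
    · rw [mul_assoc, mul_assoc, ← fu', ← mul_assoc w, wf]
  -- the six idempotents
  obtain ⟨e, he⟩ : ∃ e : Fin 6 → Module.End F V,
    e = ![y * b, X * (y * X), b * y, w * Z, Z * w, f - w * Z - Z * w] := ⟨_, rfl⟩
  obtain ⟨hee, hsum, x0, x1, x2, x0', x3, x4, x3', x5, x5'⟩ :=
    idems hXX hXb hbX hbyb hyby hyXy hyy hf hZ hZwZ hwZw hww fw wf e he
  have ce : ∀ i, Com g (e i) := by
    intro i
    subst he
    fin_cases i
    · exact cy.mul cb
    · exact cX.mul (cy.mul cX)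
    · exact cb.mul cy
    · exact cw.mul cZ
    · exact cZ.mul cw
    · exact (cf.sub (cw.mul cZ)).sub (cZ.mul cw)
  have a0 : Adj Q (e 0) (e 2) := by subst he; exact ay.mul ab
  have a1 : Adj Q (e 1) (e 1) := by
    subst he
    have := aX.mul (ay.mul aX)
    rwa [mul_neg, neg_mul, neg_mul, neg_neg, mul_assoc] at this
  have a3 : Adj Q (e 3) (e 4) := by
    subst he
    have := aw.mul aZ
    rwa [neg_mul_neg] at this
  have a5 : Adj Q (e 5) (e 5) := by
    have h5 : e 5 = f - e 3 - e 4 := by subst he; rfl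
    have h5' : e 5 = f - e 4 - e 3 := by rw [h5]; abel
    have := (af.sub a3).sub a3.symm
    rwa [← h5, ← h5'] at this
  obtain ⟨c, hc'⟩ : ∃ c : F → Fin 6 → F, ∀ a, c a = ![a⁻¹ ^ 2, 1, a ^ 2, a⁻¹, a, 1] := ⟨_, fun _ => rfl⟩
  have hmul : ∀ a, a ≠ 0 → (∑ i, c a i • e i) * (∑ i, c a⁻¹ i • e i) = 1 := by
    intro a ha
    rw [idem_mul hee, ← hsum]
    refine Finset.sum_congr rfl fun i _ => ?_
    have : c a i * c a⁻¹ i = 1 := by
      rw [hc', hc']
      fin_cases i <;> simp [ha, ← mul_pow]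
    rw [this, one_smul]
  have hmul' : ∀ a, a ≠ 0 → (∑ i, c a⁻¹ i • e i) * (∑ i, c a i • e i) = 1 := by
    intro a ha
    have := hmul a⁻¹ (inv_ne_zero ha)
    rwa [inv_inv] at this
  refine ⟨fun a => if ha : a ≠ 0 then LinearEquiv.ofLinearMap (∑ i, c a i • e i) (∑ i, c a⁻¹ i • e i) (hmul a ha)
    (hmul' a ha) else 1, fun a ha => ?_⟩
  simp only [ne_eq, ha, not_false_eq_true, dif_pos]
  obtain ⟨T, hT⟩ : ∃ T : Module.End F V, T = ∑ i, c a i • e i := ⟨_, rfl⟩
  obtain ⟨T', hT'⟩ : ∃ T : Module.End F V, T = ∑ i, c a⁻¹ i • e i := ⟨_, rfl⟩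
  have aT : Adj Q T T' := by
    have := (((((a0.smul (a⁻¹ ^ 2)).add a1).add (a0.symm.smul (a ^ 2))).add (a3.smul a⁻¹)).add (a3.symm.smul a)).add a5
    have e1 : T = a⁻¹ ^ 2 • e 0 + e 1 + a ^ 2 • e 2 + a⁻¹ • e 3 + a • e 4 + e 5 := by
      rw [hT, Fin.sum_univ_six, hc']
      simp
    have e2 : T' = a⁻¹ ^ 2 • e 2 + e 1 + a ^ 2 • e 0 + a⁻¹ • e 4 + a • e 3 + e 5 := by
      rw [hT', Fin.sum_univ_six, hc']
      simp
      abel
    rwa [← e1, ← e2] at this
  have hTT : T' * T = 1 := by rw [hT, hT']; exact hmul' a ha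
  have cT : Com g T := by
    intro i v
    rw [hT, LinearMap.sum_apply, LinearMap.sum_apply, map_sum]
    exact Finset.sum_congr rfl fun j _ => ((ce j).smul (c a j)) i v
  have TX : T * X = a ^ 2 • (X * T) := by
    rw [hT, Fin.sum_univ_six, hc']
    simp only [add_mul, mul_add, smul_mul_assoc, mul_smul_comm]
    simp [x0, x1, x2, x0', x3, x4, x3', x5, x5', smul_smul, ha]
    have : a ^ 2 * a⁻¹ = a := by field_simp
    rw [this]
  refine ⟨fun v => ?_, fun v => ?_, fun i => ?_⟩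
  · have e1 : polar Q (T v) (T v) = polar Q v v := by
      rw [aT, ← Module.End.mul_apply, hTT, Module.End.one_apply]
    rw [polar_self, polar_self, nsmul_eq_mul, nsmul_eq_mul] at e1
    change Q ((∑ i, c a i • e i : Module.End F V) v) = Q v
    rw [← hT]
    exact mul_left_cancel₀ (by simpa using h2) e1
  · have := LinearMap.congr_fun TX v
    change (∑ i, c a i • e i : Module.End F V) (X v) = a ^ 2 • X ((∑ i, c a i • e i : Module.End F V) v)
    rw [← hT]
    exact this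
  · ext v
    have := cT i v
    rw [hT] at this
    exact this

end Cfsg.Agent.H385.RC.Torus
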